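import Groth.Prelude
import Groth.Agent.Lib.DerivedOX.QCohLocal
import Groth.Agent.Lib.DerivedOX.RestrictRpush
import Groth.Agent.Lib.DerivedOX.TensorAssoc
import Groth.Agent.Lib.DerivedOX.PullTensor
import Groth.Agent.Lib.DerivedOX.KFlatPullback
import Groth.Agent.Lib.DerivedOX.TensorSymm
import Groth.Agent.Lib.Perfect.Triangle
import Groth.Agent.S0961

/-!
# Symmetry of Fourier–Mukai transforms under global sections
-/

set_option autoImplicit false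
set_option linter.style.haveILetI false
set_option linter.unusedSectionVars false

universe u

open CategoryTheory Limits AlgebraicGeometry HomologicalComplex

attribute [local instance] HasDerivedCategory.standard

namespace Groth.Agent.H56.FMKBase

open Groth.Agent.Lib Groth.Agent.Lib.DerivedOX

variable {W X Y : Scheme.{u}}

/-- `RΓ(X, Rp_*(Lq^*F ⊗ P) ⊗ E) ≅ RΓ(W, (q^*F ⊗ P) ⊗ p^*E)`. -/
theorem nonempty_side (p : W ⟶ X) (q : W ⟶ Y) (P : CochainComplex W.Modules ℤ)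
    [DCoh.HasLpull q] [DCoh.HasLTensorCx P] [DCoh.HasRpush p] [DCoh.HasRΓ X] [DCoh.HasRΓ W]
    (E : CochainComplex X.Modules ℤ) [DCoh.HasLTensorCx E] (F : DCoh.D Y)
    {E₀ : CochainComplex X.Modules ℤ} (hE₀ : DCoh.IsKFlat E₀)
    (eE : DerivedCategory.Q.obj E₀ ≅ DerivedCategory.Q.obj E)
    (hperf : DCoh.IsPerfect (DerivedCategory.Q.obj E))
    {F₀ : CochainComplex Y.Modules ℤ} (hF₀ : DCoh.IsKFlat F₀) (eF : DerivedCategory.Q.obj F₀ ≅ F)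
    {P₀ : CochainComplex W.Modules ℤ} (hP₀ : DCoh.IsKFlat P₀)
    (eP : DerivedCategory.Q.obj P₀ ≅ DerivedCategory.Q.obj P) :
    Nonempty ((DCoh.RΓ X).obj ((DCoh.LTensorCx E).obj
        ((DCoh.Rpush p).obj ((DCoh.LTensorCx P).obj ((DCoh.Lpull q).obj F)))) ≅
      (DCoh.RΓ W).obj (DerivedCategory.Q.obj ((DCoh.tensorCx.obj ((DCoh.tensorCx.obj
        (((Scheme.Modules.pullback q).mapHomologicalComplex (ComplexShape.up ℤ)).obj F₀)).obj P₀)).obj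
          (((Scheme.Modules.pullback p).mapHomologicalComplex (ComplexShape.up ℤ)).obj E₀)))) := by
  let qF := ((Scheme.Modules.pullback q).mapHomologicalComplex (ComplexShape.up ℤ)).obj F₀
  let pE := ((Scheme.Modules.pullback p).mapHomologicalComplex (ComplexShape.up ℤ)).obj E₀
  have hqF : DCoh.IsKFlat qF := KFlatPullback.isKFlat_pullback q hF₀
  let A₀ := (DCoh.tensorCx.obj qF).obj P₀
  have hA₀ : DCoh.IsKFlat A₀ := PullTensor.isKFlat_tensor hqF hP₀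
  obtain ⟨el⟩ := QCohLocal.nonempty_Lpull_iso q hF₀
  obtain ⟨t₁⟩ := QCohLocal.nonempty_LTensorCx_iso P hqF
  obtain ⟨c₁⟩ := QCohLocal.nonempty_tensor_iso hqF eP
  let a : (DCoh.LTensorCx P).obj ((DCoh.Lpull q).obj F) ≅ DerivedCategory.Q.obj A₀ :=
    (DCoh.LTensorCx P).mapIso ((DCoh.Lpull q).mapIso eF.symm ≪≫ el) ≪≫ t₁ ≪≫ c₁.symm
  haveI := LeftExists.hasLTensorCx E₀
  haveI := LeftExists.hasLTensorCx pE
  obtain ⟨p₁⟩ := Groth.Agent.S0961.result p E₀ hE₀ (Perfect.Triangle.isPerfect_of_iso eE.symm hperf)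
    (DerivedCategory.Q.obj A₀)
  obtain ⟨K, hK, ⟨eK⟩⟩ := QCohLocal.exists_kflat ((DCoh.Rpush p).obj (DerivedCategory.Q.obj A₀))
  obtain ⟨t₂⟩ := QCohLocal.nonempty_LTensorCx_iso E hK
  obtain ⟨t₃⟩ := QCohLocal.nonempty_LTensorCx_iso E₀ hK
  obtain ⟨c₂⟩ := QCohLocal.nonempty_tensor_iso hK eE
  obtain ⟨t₄⟩ := QCohLocal.nonempty_LTensorCx_iso pE hA₀
  exact ⟨(DCoh.RΓ X).mapIso ((DCoh.LTensorCx E).mapIso ((DCoh.Rpush p).mapIso a ≪≫ eK.symm) ≪≫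
      t₂ ≪≫ c₂.symm ≪≫ t₃.symm ≪≫ (DCoh.LTensorCx E₀).mapIso eK ≪≫ p₁) ≪≫
    (RestrictRpush.RΓ_Rpush_iso p).app _ ≪≫ (DCoh.RΓ W).mapIso t₄⟩

/-- Reversal of a triple tensor product. -/
theorem nonempty_reverse (A B C : CochainComplex W.Modules ℤ) :
    Nonempty ((DCoh.tensorCx.obj ((DCoh.tensorCx.obj A).obj B)).obj C ≅
      (DCoh.tensorCx.obj ((DCoh.tensorCx.obj C).obj B)).obj A) :=
  ⟨TensorSymm.commCx _ C ≪≫ (DCoh.tensorCx.obj C).mapIso (TensorSymm.commCx A B) ≪≫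
    (TensorAssoc.assocCx C B A).symm⟩

/-- `RΓ(X, Ψ(F) ⊗ E) ≅ RΓ(Y, Φ(E) ⊗ F)`. -/
theorem nonempty_iso (p : W ⟶ X) (q : W ⟶ Y) (P : CochainComplex W.Modules ℤ)
    [DCoh.HasLpull p] [DCoh.HasLpull q] [DCoh.HasLTensorCx P] [DCoh.HasRpush p] [DCoh.HasRpush q]
    [DCoh.HasRΓ X] [DCoh.HasRΓ Y] [DCoh.HasRΓ W]
    (E : CochainComplex X.Modules ℤ) [DCoh.HasLTensorCx E] (hE : DCoh.IsPerfect (DerivedCategory.Q.obj E))
    (F : CochainComplex Y.Modules ℤ) [DCoh.HasLTensorCx F] (hF : DCoh.IsPerfect (DerivedCategory.Q.obj F)) :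
    Nonempty ((DCoh.RΓ X).obj ((DCoh.LTensorCx E).obj
        ((DCoh.Rpush p).obj ((DCoh.LTensorCx P).obj ((DCoh.Lpull q).obj (DerivedCategory.Q.obj F))))) ≅
      (DCoh.RΓ Y).obj ((DCoh.LTensorCx F).obj
        ((DCoh.Rpush q).obj ((DCoh.LTensorCx P).obj ((DCoh.Lpull p).obj (DerivedCategory.Q.obj E)))))) := by
  obtain ⟨E₀, hE₀, ⟨eE⟩⟩ := QCohLocal.exists_kflat (DerivedCategory.Q.obj E)
  obtain ⟨F₀, hF₀, ⟨eF⟩⟩ := QCohLocal.exists_kflat (DerivedCategory.Q.obj F)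
  obtain ⟨P₀, hP₀, ⟨eP⟩⟩ := QCohLocal.exists_kflat (DerivedCategory.Q.obj P)
  obtain ⟨a⟩ := nonempty_side p q P E (DerivedCategory.Q.obj F) hE₀ eE hE hF₀ eF hP₀ eP
  obtain ⟨b⟩ := nonempty_side q p P F (DerivedCategory.Q.obj E) hF₀ eF hF hE₀ eE hP₀ eP
  obtain ⟨r⟩ := nonempty_reverse
    (((Scheme.Modules.pullback q).mapHomologicalComplex (ComplexShape.up ℤ)).obj F₀) P₀
    (((Scheme.Modules.pullback p).mapHomologicalComplex (ComplexShape.up ℤ)).obj E₀)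
  exact ⟨a ≪≫ (DCoh.RΓ W).mapIso (DerivedCategory.Q.mapIso r) ≪≫ b.symm⟩

end Groth.Agent.H56.FMKBase
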